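import Cfsg.Agent.Lib.HS.CoverData
import Cfsg.Agent.Lib.Leech.Sub.Split

/-! Kernel checks of the lifted chain of HS: elements. -/

set_option autoImplicit false
-- the pieces are checked one after another, which keeps the peak memory low
set_option Elab.async false
set_option maxRecDepth 100000

namespace CfsgLib.HS

open CfsgLib.Schur.MonoCover CfsgLib.Leech

theorem tabChk_0 : pieceOK 150 (List.range coverData.nE) (coverData.tabChk) 0 = true := by decide +kernel

theorem tabChk_1 : pieceOK 150 (List.range coverData.nE) (coverData.tabChk) 1 = true := by decide +kernel

theorem tabChk_2 : pieceOK 150 (List.range coverData.nE) (coverData.tabChk) 2 = true := by decide +kernel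

theorem tabChk_3 : pieceOK 150 (List.range coverData.nE) (coverData.tabChk) 3 = true := by decide +kernel

theorem tabChk_all : (List.range coverData.nE).all (coverData.tabChk) = true :=
  all_of_pieces (n := 150) (m := 4) (by decide +kernel) fun i hi =>
    match i, hi with
    | 0, _ => tabChk_0
    | 1, _ => tabChk_1
    | 2, _ => tabChk_2
    | 3, _ => tabChk_3
    | j + 4, h => absurd h (by omega)

theorem defChk_0 : pieceOK 70 (List.range coverData.nU) (coverData.defChk) 0 = true := by decide +kernel

theorem defChk_1 : pieceOK 70 (List.range coverData.nU) (coverData.defChk) 1 = true := by decide +kernel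

theorem defChk_2 : pieceOK 70 (List.range coverData.nU) (coverData.defChk) 2 = true := by decide +kernel

theorem defChk_3 : pieceOK 70 (List.range coverData.nU) (coverData.defChk) 3 = true := by decide +kernel

theorem defChk_4 : pieceOK 70 (List.range coverData.nU) (coverData.defChk) 4 = true := by decide +kernel

theorem defChk_5 : pieceOK 70 (List.range coverData.nU) (coverData.defChk) 5 = true := by decide +kernel

theorem defChk_6 : pieceOK 70 (List.range coverData.nU) (coverData.defChk) 6 = true := by decide +kernel

theorem defChk_7 : pieceOK 70 (List.range coverData.nU) (coverData.defChk) 7 = true := by decide +kernel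

theorem defChk_all : (List.range coverData.nU).all (coverData.defChk) = true :=
  all_of_pieces (n := 70) (m := 8) (by decide +kernel) fun i hi =>
    match i, hi with
    | 0, _ => defChk_0
    | 1, _ => defChk_1
    | 2, _ => defChk_2
    | 3, _ => defChk_3
    | 4, _ => defChk_4
    | 5, _ => defChk_5
    | 6, _ => defChk_6
    | 7, _ => defChk_7
    | j + 8, h => absurd h (by omega)

theorem invChk_all : (List.range coverData.ng).all coverData.invChk = true := by decide +kernel

end CfsgLib.HS
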