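import Cfsg.Agent.Lib.HS.CoverData
import Cfsg.Agent.Lib.Leech.Sub.Split

/-! Kernel checks of the lifted chain of HS: levels. -/

set_option autoImplicit false
-- the pieces are checked one after another, which keeps the peak memory low
set_option Elab.async false
set_option maxRecDepth 100000

namespace CfsgLib.HS

open CfsgLib.Schur.MonoCover CfsgLib.Leech

theorem levChk_0 : coverData.levChk 0 = true := by decide +kernel

theorem levChk_1 : coverData.levChk 1 = true := by decide +kernel

theorem levChk_2 : coverData.levChk 2 = true := by decide +kernel

theorem levChk_3 : coverData.levChk 3 = true := by decide +kernel

theorem levChk_4 : coverData.levChk 4 = true := by decide +kernel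

theorem levChk_5 : coverData.levChk 5 = true := by decide +kernel

theorem pickChk_all : (List.range coverData.nlev).all (fun k => (coverData.pick k).all (coverData.pickChk k)) = true := by decide +kernel

theorem wordChk : (commWord.all (fun i => decide (i < 2 * coverData.ng) &&
        decide ((if i < coverData.ng then i else i - coverData.ng) ∈ coverData.gens 0)) &&
      (List.range coverData.ng).all (fun j => Nat.beq (commWord.count j) (commWord.count (coverData.ng + j))) &&
      coverData.eqW 1 commWord []) = true := by decide +kernel

end CfsgLib.HS
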