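import Cfsg.Agent.Lib.HS.CoverData
import Cfsg.Agent.Lib.Leech.Sub.Split

/-! Kernel checks of the lifted chain of HS: Schreier generators of the first level. -/

set_option autoImplicit false
-- the pieces are checked one after another, which keeps the peak memory low
set_option Elab.async false
set_option maxRecDepth 100000

namespace CfsgLib.HS

open CfsgLib.Schur.MonoCover CfsgLib.Leech

theorem schChk0_0 : pieceOK 50 (sch0) (coverData.schChk 0) 0 = true := by decide +kernel

theorem schChk0_1 : pieceOK 50 (sch0) (coverData.schChk 0) 1 = true := by decide +kernel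

theorem schChk0_2 : pieceOK 50 (sch0) (coverData.schChk 0) 2 = true := by decide +kernel

theorem schChk0_3 : pieceOK 50 (sch0) (coverData.schChk 0) 3 = true := by decide +kernel

theorem schChk0_4 : pieceOK 50 (sch0) (coverData.schChk 0) 4 = true := by decide +kernel

theorem schChk0_5 : pieceOK 50 (sch0) (coverData.schChk 0) 5 = true := by decide +kernel

theorem schChk0_6 : pieceOK 50 (sch0) (coverData.schChk 0) 6 = true := by decide +kernel

theorem schChk0_7 : pieceOK 50 (sch0) (coverData.schChk 0) 7 = true := by decide +kernel

theorem schChk0_8 : pieceOK 50 (sch0) (coverData.schChk 0) 8 = true := by decide +kernel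

theorem schChk0_9 : pieceOK 50 (sch0) (coverData.schChk 0) 9 = true := by decide +kernel

theorem schChk0_10 : pieceOK 50 (sch0) (coverData.schChk 0) 10 = true := by decide +kernel

theorem schChk0_11 : pieceOK 50 (sch0) (coverData.schChk 0) 11 = true := by decide +kernel

theorem schChk0_12 : pieceOK 50 (sch0) (coverData.schChk 0) 12 = true := by decide +kernel

theorem schChk0_13 : pieceOK 50 (sch0) (coverData.schChk 0) 13 = true := by decide +kernel

theorem schChk0_14 : pieceOK 50 (sch0) (coverData.schChk 0) 14 = true := by decide +kernel

theorem schChk0_all : (sch0).all (coverData.schChk 0) = true :=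
  all_of_pieces (n := 50) (m := 15) (by decide +kernel) fun i hi =>
    match i, hi with
    | 0, _ => schChk0_0
    | 1, _ => schChk0_1
    | 2, _ => schChk0_2
    | 3, _ => schChk0_3
    | 4, _ => schChk0_4
    | 5, _ => schChk0_5
    | 6, _ => schChk0_6
    | 7, _ => schChk0_7
    | 8, _ => schChk0_8
    | 9, _ => schChk0_9
    | 10, _ => schChk0_10
    | 11, _ => schChk0_11
    | 12, _ => schChk0_12
    | 13, _ => schChk0_13
    | 14, _ => schChk0_14
    | j + 15, h => absurd h (by omega)


end CfsgLib.HS
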