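import Cfsg.Agent.Lib.HS.CoverData
import Cfsg.Agent.Lib.Leech.Sub.Split

/-! Kernel checks of the lifted chain of HS: Schreier generators of the deeper levels. -/

set_option autoImplicit false
-- the pieces are checked one after another, which keeps the peak memory low
set_option Elab.async false
set_option maxRecDepth 100000

namespace CfsgLib.HS

open CfsgLib.Schur.MonoCover CfsgLib.Leech

theorem schChk1_0 : pieceOK 50 (sch1) (coverData.schChk 1) 0 = true := by decide +kernel

theorem schChk1_1 : pieceOK 50 (sch1) (coverData.schChk 1) 1 = true := by decide +kernel

theorem schChk1_2 : pieceOK 50 (sch1) (coverData.schChk 1) 2 = true := by decide +kernel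

theorem schChk1_3 : pieceOK 50 (sch1) (coverData.schChk 1) 3 = true := by decide +kernel

theorem schChk1_4 : pieceOK 50 (sch1) (coverData.schChk 1) 4 = true := by decide +kernel

theorem schChk1_5 : pieceOK 50 (sch1) (coverData.schChk 1) 5 = true := by decide +kernel

theorem schChk1_6 : pieceOK 50 (sch1) (coverData.schChk 1) 6 = true := by decide +kernel

theorem schChk1_all : (sch1).all (coverData.schChk 1) = true :=
  all_of_pieces (n := 50) (m := 7) (by decide +kernel) fun i hi =>
    match i, hi with
    | 0, _ => schChk1_0
    | 1, _ => schChk1_1
    | 2, _ => schChk1_2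
    | 3, _ => schChk1_3
    | 4, _ => schChk1_4
    | 5, _ => schChk1_5
    | 6, _ => schChk1_6
    | j + 7, h => absurd h (by omega)

theorem schChk2_all : sch2.all (coverData.schChk 2) = true := by decide +kernel

theorem schChk3_all : sch3.all (coverData.schChk 3) = true := by decide +kernel

theorem schChk4_all : sch4.all (coverData.schChk 4) = true := by decide +kernel

theorem schChk5_all : sch5.all (coverData.schChk 5) = true := by decide +kernel


end CfsgLib.HS
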