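import Cfsg.Agent.Lib.HS.MultData

/-! Kernel checks of the tables of the Sylow subgroups of HS. -/

set_option autoImplicit false
-- the checks run one after another, which keeps the peak memory low
set_option Elab.async false
set_option maxRecDepth 100000

namespace CfsgLib.HS

open CfsgLib.Schur.LinTable CfsgLib.Schur.PermTable

theorem progOK : (List.range hsElts.prog.length).all hsElts.progAt = true := by decide +kernel

theorem tabTwo_ok : sylTab_two.ok = true := by decide +kernel

theorem latTwo_ok : sylTab_two.latOK latCert_two = true := by decide +kernel

theorem headTwo_ok : link_two.headOK hsElts sylTab_two = true := by decide +kernel

theorem elTwo_ok : (List.range sylTab_two.N).all (link_two.elAt hsElts sylTab_two) = true := by decide +kernel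

theorem conjTwo_ok : link_two.conjOK hsElts sylTab_two latCert_two = true := by decide +kernel

theorem tabThree_ok : sylTab_three.ok = true := by decide +kernel

theorem latThree_ok : sylTab_three.latOK latCert_three = true := by decide +kernel

theorem headThree_ok : link_three.headOK hsElts sylTab_three = true := by decide +kernel

theorem elThree_ok : (List.range sylTab_three.N).all (link_three.elAt hsElts sylTab_three) = true := by decide +kernel

theorem conjThree_ok : link_three.conjOK hsElts sylTab_three latCert_three = true := by decide +kernel

theorem tabFive_ok : sylTab_five.ok = true := by decide +kernel

theorem latFive_ok : sylTab_five.latOK latCert_five = true := by decide +kernel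

theorem headFive_ok : link_five.headOK hsElts sylTab_five = true := by decide +kernel

theorem elFive_ok : (List.range sylTab_five.N).all (link_five.elAt hsElts sylTab_five) = true := by decide +kernel

theorem conjFive_ok : link_five.conjOK hsElts sylTab_five latCert_five = true := by decide +kernel

end CfsgLib.HS
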