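import Cfsg.Agent.Lib.HS.Action
import Cfsg.Agent.Lib.HS.CoverChkA
import Cfsg.Agent.Lib.HS.CoverChkB
import Cfsg.Agent.Lib.HS.CoverChkC
import Cfsg.Agent.Lib.HS.CoverChkD
import Cfsg.Agent.Lib.HS.MultChecks
import Cfsg.Agent.Lib.Schur.CyclicBound
import Cfsg.Agent.Lib.Golay.Mult.Odd

/-!
The multiplier of HS has order two.
-/

set_option autoImplicit false
set_option maxRecDepth 100000
set_option linter.style.haveILetI false

namespace CfsgLib.HS

open Cfsg CfsgLib.Schur CfsgLib.Schur.PermTable CfsgLib.Leech.OutPair CfsgLib.Schur.MonoCover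
open scoped commutatorElement

theorem coverValid : coverData.Valid where
  hm := Nat.succ_pos _
  hc := Nat.succ_pos _
  htab := tabChk_all
  hinv := invChk_all
  hdef := defChk_all
  hlev := List.all_eq_true.2 fun k hk => by
    have hk' : k < 6 := List.mem_range.1 hk
    interval_cases k
    exacts [levChk_0, levChk_1, levChk_2, levChk_3, levChk_4, levChk_5]
  hlast := rfl
  hsch := fun k hk => by
    have hk' : k < 6 := hk
    interval_cases k
    exacts [schChk0_all, schChk1_all, schChk2_all, schChk3_all, schChk4_all, schChk5_all]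
  hpick := fun k hk => List.all_eq_true.1 pickChk_all k (List.mem_range.2 hk)

/-- The kernel of a stem extension has order at most two. -/
theorem ker_cyclic {ρ : ↥G →* Equiv.Perm (Fin 100)} (hρ : Function.Injective ρ)
    (h0 : Acts (E := hsElts) ρ (X 0) (hsElts.P 0)) (h1 : Acts (E := hsElts) ρ (X 1) (hsElts.P 1))
    {Γ : Type} [Group Γ] [Finite Γ] (σ : Γ →* ↥G) (hσ : IsStemExtension σ) :
    ∃ z ∈ σ.ker, z ^ 2 = 1 ∧ σ.ker ≤ Subgroup.zpowers z := by
  haveI := finite_G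
  obtain ⟨U2, hU2, a, ha, ha2, ha'⟩ := bound_of_link (M := 86625) (ℓ := 2) hρ ⟨_, h0⟩ ⟨_, h1⟩ progOK link_two
    tabTwo_ok latTwo_ok headTwo_ok elTwo_ok conjTwo_ok (by rw [natCard_G]; rfl) (by norm_num) σ hσ.1 hσ.2.1
  obtain ⟨U3, hU3, b, -, hb1, hb'⟩ := bound_of_link (M := 4928000) (ℓ := 3) hρ ⟨_, h0⟩ ⟨_, h1⟩ progOK link_three
    tabThree_ok latThree_ok headThree_ok elThree_ok conjThree_ok (by rw [natCard_G]; rfl) (by norm_num) σ hσ.1 hσ.2.1
  obtain ⟨U5, hU5, c, -, hc1, hc'⟩ := bound_of_link (M := 354816) (ℓ := 5) hρ ⟨_, h0⟩ ⟨_, h1⟩ progOK link_five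
    tabFive_ok latFive_ok headFive_ok elFive_ok conjFive_ok (by rw [natCard_G]; rfl) (by norm_num) σ hσ.1 hσ.2.1
  change b ^ 1 = 1 at hb1
  change c ^ 1 = 1 at hc1
  rw [pow_one] at hb1 hc1
  subst hb1 hc1
  refine ⟨a, ha, ha2, CyclicBound.ker_le_zpowers hσ a fun ℓ hℓ => ?_⟩
  by_cases h2 : ℓ = 2
  · subst h2; exact ⟨U2, hU2, ha'⟩
  by_cases h3 : ℓ = 3
  · subst h3
    exact ⟨U3, hU3, fun z hz hzd => Subgroup.zpowers_le.2 (one_mem _) (hb' z hz hzd)⟩
  by_cases h5 : ℓ = 5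
  · subst h5
    exact ⟨U5, hU5, fun z hz hzd => Subgroup.zpowers_le.2 (one_mem _) (hc' z hz hzd)⟩
  haveI := Fact.mk hℓ
  have hnd : ¬ ℓ ^ 2 ∣ Nat.card ↥G := by
    rw [natCard_G]
    intro hd
    have hle := Nat.le_of_dvd (by norm_num) hd
    have hlt : ℓ < 6660 := by nlinarith
    have hall : ∀ m < 6660, m * m ∣ 44352000 → m = 1 ∨ 2 ∣ m ∨ 3 ∣ m ∨ 5 ∣ m := by decide +kernel
    rcases hall ℓ hlt (by rwa [← sq]) with h | h | h | h
    · exact hℓ.one_lt.ne' h
    · exact h2 ((Nat.prime_dvd_prime_iff_eq Nat.prime_two hℓ).1 h).symm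
    · exact h3 ((Nat.prime_dvd_prime_iff_eq Nat.prime_three hℓ).1 h).symm
    · exact h5 ((Nat.prime_dvd_prime_iff_eq Nat.prime_five hℓ).1 h).symm
  refine ⟨(default : Sylow ℓ ↥G), Sylow.not_dvd_index _, fun z hz hzd => ?_⟩
  have hP := (default : Sylow ℓ ↥G).card_eq_multiplicity
  haveI : IsCyclic ((default : Sylow ℓ ↥G) : Subgroup ↥G) := by
    have hle : (Nat.card ↥G).factorization ℓ ≤ 1 := by
      by_contra hc
      exact hnd ((pow_dvd_pow ℓ (by omega)).trans (Nat.ordProj_dvd _ ℓ))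
    interval_cases hf : (Nat.card ↥G).factorization ℓ
    · rw [pow_zero] at hP
      have : Subsingleton ((default : Sylow ℓ ↥G) : Subgroup ↥G) := (Nat.card_eq_one_iff_unique.1 hP).1
      exact isCyclic_of_subsingleton
    · rw [pow_one] at hP
      exact isCyclic_of_prime_card hP
  rw [preimage_commutator_eq_bot_of_isCyclic σ hσ.2.1] at hzd
  rw [Subgroup.mem_bot.1 hzd]
  exact one_mem _

/-- The multiplier of the two-vector stabiliser is cyclic of order two. -/
theorem multiplier_pairG : HasCyclicSchurMultiplier ↥G 2 := by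
  haveI := finite_G
  obtain ⟨ρ, τ, h0, h1, hker, hτ⟩ := exists_actions
  obtain ⟨hinj, hcov⟩ := Data.exists_stem coverValid (G := ↥G) τ X (fun j hj r => hτ j hj r)
    (by
      rw [← closure_X]
      congr 1
      ext x
      show (∃ g ∈ [0, 1], x = X g) ↔ _
      simp)
    (by rw [natCard_G]; decide +kernel) commWord wordChk (by norm_num)
  have hρ : Function.Injective ρ := (injective_iff_map_eq_one ρ).2 fun g hg =>
    (injective_iff_map_eq_one τ).1 hinj g (hker g hg)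
  refine ⟨hcov, fun Γ _ _ σ hσ => ?_⟩
  obtain ⟨z, hz, hz2, hle⟩ := ker_cyclic hρ h0 h1 σ hσ
  exact CyclicBound.exists_surjection hz hz2 hle

end CfsgLib.HS
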