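import Cfsg.Agent.Lib.HS.ActionData
import Cfsg.Agent.Lib.HS.CoverData
import Cfsg.Agent.Lib.HS.MultElts
import Cfsg.Agent.Lib.Schur.FamilyAction
import Cfsg.Agent.Lib.Leech.OutPair.HsChecks
import Cfsg.Agent.Lib.Leech.OutPair.Iso

/-!
The actions of HS on 100 classes and on 352 halves.
-/

set_option autoImplicit false
set_option maxRecDepth 100000

namespace CfsgLib.HS

open Cfsg CfsgLib.Chev CfsgLib.Golay CfsgLib.Leech CfsgLib.Leech.Mult CfsgLib.Leech.OutPair
open CfsgLib.Schur.PermTable (Acts)
local notation "pap" => CfsgLib.Schur.PermTable.ap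

attribute [local irreducible] dL bL key keyL coord packB linL bits hsCert

theorem inL_V : inL hsCert.V = true := by decide +kernel

theorem inL_W : inL hsCert.W = true := by decide +kernel

/-- the copy of HS -/
noncomputable abbrev G : Subgroup ↥(stabL inL_V) := pairG inL_V inL_W

theorem natCard_G : Nat.card ↥G = 44352000 := by
  refine (natCard_pairG inL_V inL_W).trans ((natCard_hs ?_ ?_ ?_).trans (by norm_num))
  · exact (sqNorm_vec (inL_length inL_V)).trans (by decide +kernel)
  · exact (sqNorm_vec (inL_length inL_W)).trans (by decide +kernel)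
  · exact (dotInt_vec (inL_length inL_V) (inL_length inL_W)).trans (by decide +kernel)

theorem finite_G : Finite ↥G := Nat.finite_of_card_ne_zero (by rw [natCard_G]; norm_num)

/-- the two generators -/
noncomputable def X : ℕ → ↥G
  | 0 => gX inL_V inL_W hs_base
  | _ => gU inL_V inL_W hs_base

theorem closure_X : Subgroup.closure {X 0, X 1} = ⊤ := by
  haveI : Finite ↥(stabL inL_V) := by
    haveI : Finite ↥Co0 := Nat.finite_of_card_ne_zero (by rw [natCard_Co0]; norm_num)
    infer_instance
  exact closure_top inL_V inL_W hs_base (by unfold hsCert; exact hs_prog) hs_levs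
    natCard_G (by rw [hs_bound])

/-- the class of a point -/
def ptOf (i : ℕ) : ℕ := ptsClass.getD i 0

/-- the half of a mask -/
def halfSet (r : Fin 352) : Finset (Fin 100) :=
  Finset.univ.filter fun i => (halfMask.getD r 0).testBit i

theorem ptsChk : ptsClass.Nodup ∧ ptsClass.length = 100 ∧
    (List.range 100).all (fun i => Nat.blt (ptOf i) 16777216) = true := by decide +kernel

theorem genChk : (List.range 100).all (fun i =>
    Nat.blt (pap (hsElts.P 0) i) 100 && Nat.blt (pap (hsElts.P 1) i) 100 &&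
    comb tX (ptOf i) == ptOf (pap (hsElts.P 0) i) &&
      comb hsCert.tU (ptOf i) == ptOf (pap (hsElts.P 1) i)) = true := by
  unfold hsCert
  decide +kernel

theorem halfChk : halfMask.Nodup ∧ halfMask.length = 352 ∧
    (List.range 352).all (fun r => decide (halfMask.getD r 0 < 2 ^ 100) &&
      [0, 1].all fun j => Nat.blt (coverData.img j r) 352 && allBelow 100 fun i =>
        (halfMask.getD r 0).testBit i ==
          (halfMask.getD (coverData.img j r) 0).testBit (pap (hsElts.P j) i)) = true := by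
  decide +kernel

/-- The two actions. -/
theorem exists_actions : ∃ (ρ : ↥G →* Equiv.Perm (Fin 100)) (τ : ↥G →* Equiv.Perm (Fin 352)),
    Acts (E := hsElts) ρ (X 0) (hsElts.P 0) ∧ Acts (E := hsElts) ρ (X 1) (hsElts.P 1) ∧
      (∀ g, ρ g = 1 → τ g = 1) ∧
      ∀ j ∈ [0, 1], ∀ r : Fin 352, ((τ (X j) r : Fin 352) : ℕ) = coverData.img j r := by
  haveI := finite_G
  obtain ⟨hnd, hlen, hlt⟩ := ptsChk
  simp only [List.all_eq_true, List.mem_range, Nat.blt_eq] at hlt
  obtain ⟨rX, -, rU⟩ := reps inL_V inL_W hs_base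
  have hgc := genChk
  simp only [List.all_eq_true, List.mem_range, Bool.and_eq_true, beq_iff_eq, Nat.blt_eq] at hgc
  have hact : ∀ j ∈ [0, 1], ∀ i : Fin 100, ∃ h : pap (hsElts.P j) i < 100,
      act ((X j).1 : ↥Co0) (ptOf i) = ptOf (pap (hsElts.P j) i) := by
    intro j hj i
    obtain ⟨⟨⟨a, b⟩, c⟩, d⟩ := hgc i i.isLt
    simp only [List.mem_cons, List.not_mem_nil, or_false] at hj
    rcases hj with rfl | rfl
    · exact ⟨a, (rX _ (hlt i i.isLt)).trans c⟩
    · exact ⟨b, (rU _ (hlt i i.isLt)).trans d⟩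
  have hinj : Function.Injective fun i : Fin 100 => ptOf i := by
    intro i j e
    simp only [ptOf, List.getD_eq_getElem?_getD,
      List.getElem?_eq_getElem (show i.1 < ptsClass.length by omega),
      List.getElem?_eq_getElem (show j.1 < ptsClass.length by omega), Option.getD_some] at e
    exact Fin.ext ((hnd.getElem_inj_iff).1 e)
  have hgenset : ∀ s ∈ ({X 0, X 1} : Set ↥G), ∃ j ∈ [0, 1], s = X j := by
    rintro s (rfl | rfl)
    · exact ⟨0, by simp, rfl⟩
    · exact ⟨1, by simp, rfl⟩
  obtain ⟨ρ, hρ⟩ := CfsgLib.Schur.exists_familyHom (fun (g : ↥G) k => act (g.1 : ↥Co0) k)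
    (fun i : Fin 100 => ptOf i) hinj (fun i => act_one (hlt i i.isLt))
    (fun g h i => act_mul _ _ _) closure_X (fun s hs i => by
      obtain ⟨j, hj, rfl⟩ := hgenset s hs
      obtain ⟨h, e⟩ := hact j hj i
      exact ⟨⟨_, h⟩, e⟩)
  have hρX : ∀ j ∈ [0, 1], ∀ i : Fin 100, ((ρ (X j) i : Fin 100) : ℕ) = pap (hsElts.P j) i := by
    intro j hj i
    obtain ⟨h, e⟩ := hact j hj i
    exact congrArg Fin.val (hinj ((hρ (X j) i).trans e) : ρ (X j) i = ⟨_, h⟩)
  obtain ⟨hnd', hlen', hhc⟩ := halfChk
  simp only [List.all_eq_true, List.mem_range, Bool.and_eq_true, decide_eq_true_eq, Nat.blt_eq] at hhc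
  have hinj' : Function.Injective halfSet := by
    intro r s e
    have hr : r.1 < halfMask.length := by omega
    have hs : s.1 < halfMask.length := by omega
    refine Fin.ext ((hnd'.getElem_inj_iff (hi := hr) (hj := hs)).1 ?_)
    have key : halfMask.getD r 0 = halfMask.getD s 0 := by
      refine Nat.eq_of_testBit_eq fun i => ?_
      rcases Nat.lt_or_ge i 100 with hi | hi
      · have := congrArg (fun t => decide ((⟨i, hi⟩ : Fin 100) ∈ t)) e
        simpa [halfSet] using this
      · rw [Nat.testBit_lt_two_pow ((hhc r r.isLt).1.trans_le (Nat.pow_le_pow_right (by norm_num) hi)),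
          Nat.testBit_lt_two_pow ((hhc s s.isLt).1.trans_le (Nat.pow_le_pow_right (by norm_num) hi))]
    rwa [List.getD_eq_getElem?_getD, List.getD_eq_getElem?_getD, List.getElem?_eq_getElem hr,
      List.getElem?_eq_getElem hs, Option.getD_some, Option.getD_some] at key
  have himg : ∀ j ∈ [0, 1], ∀ r : Fin 352, ∃ h : coverData.img j r < 352,
      (halfSet r).image (ρ (X j)) = halfSet ⟨_, h⟩ := by
    intro j hj r
    have h := (hhc r r.isLt).2 j hj
    refine ⟨h.1, Finset.ext fun p => ?_⟩
    obtain ⟨i, rfl⟩ := (ρ (X j)).surjective p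
    rw [Finset.mem_image]
    have e := allBelow_eq_true h.2 i i.isLt
    rw [beq_iff_eq, ← hρX j hj i] at e
    constructor
    · rintro ⟨i', hi', e'⟩
      rw [(ρ (X j)).injective e'] at hi'
      simp only [halfSet, Finset.mem_filter, Finset.mem_univ, true_and] at hi' ⊢
      exact e ▸ hi'
    · intro hm
      simp only [halfSet, Finset.mem_filter, Finset.mem_univ, true_and] at hm ⊢
      exact ⟨i, e.trans hm, rfl⟩
  obtain ⟨τ, hτ⟩ := CfsgLib.Schur.exists_familyHom (fun (g : ↥G) (t : Finset (Fin 100)) => t.image (ρ g))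
    halfSet hinj' (fun r => by rw [map_one]; exact Finset.image_id)
    (fun g h r => by rw [Finset.image_image, map_mul]; rfl) closure_X (fun s hs r => by
      obtain ⟨j, hj, rfl⟩ := hgenset s hs
      obtain ⟨h, e⟩ := himg j hj r
      exact ⟨⟨_, h⟩, e⟩)
  refine ⟨ρ, τ, hρX 0 (by simp), hρX 1 (by simp), fun g hg => Equiv.ext fun r => hinj' ?_, fun j hj r => ?_⟩
  · rw [hτ, hg]
    exact Finset.image_id
  · obtain ⟨h, e⟩ := himg j hj r
    exact congrArg Fin.val (hinj' ((hτ (X j) r).trans e) : τ (X j) r = ⟨_, h⟩)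

end CfsgLib.HS
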